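import Cfsg.Agent.H454.PiBS.Const
import Cfsg.Agent.H454.PiBS.Cls

/-!
# The types of the Hall π-subgroups under the weaker hypothesis `Cls π A`
-/

set_option autoImplicit false
set_option linter.unusedSectionVars false

open scoped Pointwise

namespace Cfsg.Agent.H443.PC

open Cfsg Subgroup Cfsg.Agent.Tits.Core Cfsg.Agent.Tits.Core.Bldg Cfsg.Agent.Tits
open Cfsg.Agent.FixBN (Sys)
open Cfsg.Agent.FixOdd (Tw)
open Cfsg.Agent.H469.PiBS Cfsg.Agent.H454.PiBS

variable {I : Type*} {M : CoxeterMatrix I} {W : Type*} [Group W] {cs : CoxeterSystem M W} {C : Type*}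
  {Δ : Bldg cs C} {G : Type*} [Group G] [MulAction G C] {p : ℕ} (S : Sys Δ G p)

theorem cls_nonempty [Finite G] [hp : Fact p.Prime] {π : Set ℕ} (hpi : p ∈ π) {A : Subgroup (MulAut G)}
    (h : Cls π A) : (TySet S π).Nonempty := by
  obtain ⟨H, hH⟩ := h.exists_hall
  obtain ⟨z, P, -, hz⟩ := exists_U_le S hH hpi (V := ⊥) IsPGroup.of_bot bot_le
  exact ⟨_, H, hH, z, by rw [hz]; exact Subgroup.map_subtype_le _, rfl⟩

variable [F : OppRes.Cox cs]

variable [Finite G] [hp : Fact p.Prime] (hth : Δ.Thick) {π : Set ℕ} (hpi : p ∈ π)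
  {A : Subgroup (MulAut G)} (h : Cls π A)

include hth hpi h

/-- the set of types is an orbit -/
theorem cls_trans {J J' : Set I} (hJ : J ∈ TySet S π) (hJ' : J' ∈ TySet S π) :
    ∃ a ∈ A, ∀ t : Tw Δ G, t.τ = a → t.σ '' J = J' := by
  obtain ⟨H, hH, z, hz, rfl⟩ := hJ
  obtain ⟨H', hH', z', hz', rfl⟩ := hJ'
  obtain ⟨a, ha, haH⟩ := h.trans H H' hH hH'
  refine ⟨a, ha, fun t ht => ?_⟩
  rw [← Ty_map t H z]
  have e1 : H.map t.τ.toMonoidHom = H' := by rw [ht, haH]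
  rw [e1]
  exact Ty_eq S hth hpi hH' (e1 ▸ U_map_le S t hz) hz'

/-- the number of types divides the number of Hall π-subgroups -/
theorem cls_card_dvd [Finite I] [Finite W] (htw : ∀ a ∈ A, ∃ t : Tw Δ G, t.τ = a) :
    Nat.card (TySet S π) ∣ Nat.card {H : Subgroup G // IsPiHall π H} := by
  classical
  have hex : ∀ H : {H : Subgroup G // IsPiHall π H}, ∃ z : C, S.U z ≤ H.1 := by
    intro H
    obtain ⟨z, P, -, hz⟩ := exists_U_le S H.2 hpi (V := ⊥) IsPGroup.of_bot bot_le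
    exact ⟨z, by rw [hz]; exact Subgroup.map_subtype_le _⟩
  choose zz hzz using hex
  set T : {H : Subgroup G // IsPiHall π H} → Set I := fun H => Ty Δ H.1 (zz H) with hT
  have hTe : ∀ (H : {H : Subgroup G // IsPiHall π H}) (z : C), S.U z ≤ H.1 → Ty Δ H.1 z = T H :=
    fun H z hz => Ty_eq S hth hpi H.2 hz (hzz H)
  have hrange : Set.range T = TySet S π := by
    ext J
    constructor
    · rintro ⟨H, rfl⟩
      exact ⟨H.1, H.2, zz H, hzz H, rfl⟩
    · rintro ⟨H, hH, z, hz, rfl⟩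
      exact ⟨⟨H, hH⟩, (hTe ⟨H, hH⟩ z hz).symm⟩
  have hne : Nonempty {H : Subgroup G // IsPiHall π H} := by
    obtain ⟨H, hH⟩ := h.exists_hall
    exact ⟨⟨H, hH⟩⟩
  rw [← hrange]
  refine (card_range_dvd (D := autM M) T ?_).1
  intro H H'
  obtain ⟨a, ha, haH⟩ := h.trans H.1 H'.1 H.2 H'.2
  obtain ⟨t, ht⟩ := htw a ha
  let _ : MulAction (MulAut G) {H : Subgroup G // IsPiHall π H} := hallAct π G
  refine ⟨MulAction.toPerm a, ⟨t.σ, tw_mem_autM t⟩, Subtype.ext haH, fun K => ?_⟩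
  have e1 : ((MulAction.toPerm a K : {H : Subgroup G // IsPiHall π H}) : Subgroup G) =
      K.1.map t.τ.toMonoidHom := by rw [ht]; rfl
  have e2 : S.U (t.θ (zz K)) ≤ (MulAction.toPerm a K : {H : Subgroup G // IsPiHall π H}).1 := by
    rw [e1]; exact U_map_le S t (hzz K)
  rw [← hTe _ _ e2, e1, Ty_map t]
  rfl

/-- no prime of `π` divides the number of types -/
theorem cls_not_dvd [Finite I] [Finite W] (htw : ∀ a ∈ A, ∃ t : Tw Δ G, t.τ = a) {r : ℕ} (hr : r.Prime)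
    (hrpi : r ∈ π) : ¬ r ∣ Nat.card (TySet S π) := fun hd =>
  h.cnt r hr hrpi (hd.trans (cls_card_dvd S hth hpi h htw))

end Cfsg.Agent.H443.PC
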