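import Cfsg.Agent.H469.PiBS.Def
import Cfsg.Agent.FixBN.Disp
import Cfsg.Agent.FixBN.Split
import Cfsg.Agent.Nodes.BNOf

/-!
# S3876, the rows of Lie type with the characteristic in `π` (row_char): definitions

* `NTri X i` : the node `i` of a root group datum contains a symmetric group of degree three generated by root elements
* `HasTri Y` : `Y` has a root group datum of characteristic two all of whose nodes are `NTri`
* `TriB P s` : the same for a `(B, N)`-pair
* `TriAt S i x` : the same for the panel `Pan i x` of a building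
-/

set_option autoImplicit false
set_option linter.unusedSectionVars false

namespace Cfsg.Agent.H443.PC

open Cfsg Cfsg.Agent.Tits.Core Cfsg.Agent.Tits.Core.Bldg
open CoxeterSystem Cfsg.Agent.ChevalleyStructure.CoxeterGeom Cfsg.Agent.Tits.Roots
  Cfsg.Agent.Tits.RootComb Cfsg.Agent.Nodes.Comb Cfsg.Agent.Nodes.Reps Cfsg.Agent.Nodes.BNOf

/-- The node `i` of a root group datum contains a symmetric group of degree three generated by two root elements. -/
def NTri {Y I : Type*} [Group Y] [DecidableEq I] (X : (I → ℤ) → Subgroup Y) (i : I) : Prop :=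
  ∃ u ∈ X (sr i), ∃ v ∈ X (-sr i), u ≠ 1 ∧ v ≠ 1 ∧ u * u = 1 ∧ v * v = 1 ∧ u * v * u * v * u * v = 1

/-- `Y` has a root group datum of characteristic two with `NTri` at all nodes. -/
def HasTri (Y : Type*) [Group Y] : Prop :=
  ∃ (l : ℕ) (M : CoxeterMatrix (Fin l)) (A : Fin l → Fin l → ℤ) (h : IsCartan M A) (T : Subgroup Y) (n : Fin l → Y)
    (X : (Fin l → ℤ) → Subgroup Y), (∃ i j : Fin l, i ≠ j) ∧ Finite M.Group ∧ RGD M.toCoxeterSystem h 2 T n X ∧
      RGD.Sup X {x | IsRoot M.toCoxeterSystem h x} = ⊤ ∧ ∀ i, NTri X i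

/-- The minimal parabolic of `s` contains a symmetric group of degree three without a fixed chamber in the panel. -/
def TriB {G : Type*} [Group G] (P : Cfsg.BNPair G) (s : G) : Prop :=
  ∃ a b : G, a ∈ P.B ∧ s⁻¹ * a * s ∉ P.B ∧ b ∉ P.B ∧ s⁻¹ * b * s ∈ P.B ∧ a * a = 1 ∧ b * b = 1 ∧
    a * b * a * b * a * b = 1

/-- A symmetric group of degree three stabilises the panel `Pan i x` and fixes no chamber of it. -/
def TriAt {I : Type*} {M : CoxeterMatrix I} {W : Type*} [Group W] {cs : CoxeterSystem M W} {C : Type*}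
    (Δ : Bldg cs C) (G : Type*) [Group G] [MulAction G C] (i : I) (x : C) : Prop :=
  ∃ a b : G, a * a = 1 ∧ b * b = 1 ∧ a * b * a * b * a * b = 1 ∧ (∀ y ∈ Δ.Pan i x, a • y ∈ Δ.Pan i x) ∧
    (∀ y ∈ Δ.Pan i x, b • y ∈ Δ.Pan i x) ∧ ∀ y ∈ Δ.Pan i x, ¬ (a • y = y ∧ b • y = y)

end Cfsg.Agent.H443.PC
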