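import Cfsg.Agent.H443.PC.RowTwo
import Cfsg.Agent.H588.PC.Two
import Cfsg.Agent.H814.HasTriRows

/-!
# S3876, row_char: the simple groups of Lie type, the characteristic in `π`

* `cls_char` : `S` simple of Lie type in characteristic `p ∈ π`, `2 ∈ π`, every π-subgroup of `S` lies in a Hall π-subgroup, a group
  of automorphisms is transitive on the Hall π-subgroups, whose number is a π'-number: then `S` is a π-group or `π` contains
  only one prime divisor of `|S|`, namely `2 = p`;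
* `row_char` : the row of S3876.
-/

set_option autoImplicit false
set_option linter.unusedSectionVars false

open scoped Pointwise

namespace Cfsg.Agent.H443.PC

open Cfsg Subgroup Cfsg.Agent.Tits.Core Cfsg.Agent.Tits.Core.Bldg Cfsg.Agent.Tits Cfsg.Agent.Tits.OfBN
open Cfsg.Agent.FixBN Cfsg.Agent.LieExceptional.BNPairCore Cfsg.Agent.Tits.OppRes
open Cfsg.Agent.H469.PiBS Cfsg.Agent.H454.PiBS

open Cfsg.Agent.H814.HasTriRows

universe u v

/-- transport of `Cls` -/
theorem cls_of_equiv {π : Set ℕ} {S : Type u} {T : Type v} [Group S] [Group T] [Finite S] (e : S ≃* T)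
    {A : Subgroup (MulAut S)} (h : Cls π A) : Cls π (A.map (mcg e).toMonoidHom) where
  dom K hK := by
    have h1 : IsPiSubgroup π (K.map e.symm.toMonoidHom) := by
      intro p hp hd
      rw [Subgroup.card_map_of_injective (f := e.symm.toMonoidHom) e.symm.injective] at hd
      exact hK p hp hd
    obtain ⟨H, hH, hKH⟩ := h.dom _ h1
    refine ⟨H.map e.toMonoidHom, isPiHall_map e hH, ?_⟩
    rw [← map_symm_map e K]
    exact Subgroup.map_mono hKH
  trans H H' hH hH' := by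
    obtain ⟨a, ha, hh⟩ := h.trans _ _ (isPiHall_map e.symm hH) (isPiHall_map e.symm hH')
    refine ⟨mcg e a, ⟨a, ha, rfl⟩, ?_⟩
    have h2 := congrArg (Subgroup.map e.toMonoidHom) hh
    rw [map_symm_map, Subgroup.map_map, Subgroup.map_map] at h2
    rw [← h2]
    rfl
  cnt r hr hrp hd := by
    refine h.cnt r hr hrp ?_
    have : Nat.card {H : Subgroup S // IsPiHall π H} = Nat.card {H : Subgroup T // IsPiHall π H} :=
      Nat.card_congr
        { toFun := fun H => ⟨H.1.map e.toMonoidHom, isPiHall_map e H.2⟩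
          invFun := fun H => ⟨H.1.map e.symm.toMonoidHom, isPiHall_map e.symm H.2⟩
          left_inv := fun H => Subtype.ext (map_map_symm e H.1)
          right_inv := fun H => Subtype.ext (map_symm_map e H.1) }
    rwa [this]

/-- transport of the conclusion -/
theorem concl_of_equiv {π : Set ℕ} {S : Type u} {T : Type v} [Group S] [Group T] (e : S ≃* T) (h : Concl π T) :
    Concl π S := by
  have hc : Nat.card S = Nat.card T := Nat.card_congr e.toEquiv
  rcases h with h | h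
  · exact Or.inl fun p hp hd => h p hp (hc ▸ hd)
  · exact Or.inr fun p hp hpi hd => h p hp hpi (hc ▸ hd)

theorem not_comm_of_equiv {S : Type u} {T : Type v} [Group S] [Group T] (e : S ≃* T) (hna : ¬ IsMulCommutative S) :
    ¬ IsMulCommutative T := by
  intro hc
  apply hna
  exact ⟨⟨fun a b => e.injective (by rw [map_mul, map_mul, hc.is_comm.comm])⟩⟩

/-- odd characteristic -/
theorem cls_odd {S : Type u} [Group S] [Finite S] [IsSimpleGroup S] {p : ℕ} (hp : p.Prime) (hp2 : p ≠ 2)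
    (hG : IsLieTypeChar p S) {π : Set ℕ} (h2 : 2 ∈ π) (hpπ : p ∈ π) {A : Subgroup (MulAut S)} (h : Cls π A) :
    PiGrp π S := by
  have : Fact p.Prime := ⟨hp⟩
  obtain ⟨P, U, hne, hs, -⟩ := Cfsg.Agent.H716.SplitAb.hasSplitAb_of_lie hp hG
  have hN : ((P.B ⊓ P.N).subgroupOf P.N).Normal := normal_subgroupOf P
  obtain ⟨M, cs, hcs⟩ := S0320.result P
  have hI : Finite P.S := OfBN.finite_I (Equiv.refl P.S)
  have hC : Cox cs := inferInstance
  refine pigrp_of_types cs hcs hne hs hpπ h2 h fun i => ?_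
  obtain ⟨H, hH, z, -, hU, hi⟩ := exists_type_odd (OfBN.sys (Equiv.refl P.S) cs hcs hs)
    (thick P (Equiv.refl P.S) cs hcs) h.dom hpπ hp2 h2 i (QuotientGroup.mk (1 : S))
  exact ⟨_, Ty_mem_TySet _ hH hU, hi⟩

theorem splitAb_two {S : Type u} [Group S] [Finite S] [IsSimpleGroup S] (hG : IsLieTypeChar 2 S) :
    H463.LieAb.SplitAb 2 S := by
  have : Fact (Nat.Prime 2) := ⟨Nat.prime_two⟩
  obtain ⟨P, U, hne, hs, hc⟩ := Cfsg.Agent.H716.SplitAb.hasSplitAb_of_lie Nat.prime_two hG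
  exact ⟨P, U, hne, hs, H463.LiePair.torus_comm hs hc⟩

/-- an isomorphic copy with a root group datum `HasTri` -/
theorem concl_of_hasTri {S : Type u} [Group S] [Finite S] [IsSimpleGroup S] (hna : ¬ IsMulCommutative S)
    (hG : IsLieTypeChar 2 S) {T : Type v} [Group T] (e : S ≃* T) (hT : HasTri T) {π : Set ℕ} (h2 : 2 ∈ π)
    {A : Subgroup (MulAut S)} (h : Cls π A) : Concl π S := by
  have hab := (splitAb_two hG).congr e
  have hnt : Nontrivial T := e.toEquiv.symm.nontrivial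
  have hsim : IsSimpleGroup T := IsSimpleGroup.isSimpleGroup_of_surjective e.toMonoidHom e.surjective
  have hfin : Finite T := Finite.of_equiv _ e.toEquiv
  refine concl_of_equiv e ?_
  obtain ⟨P, U, hne, hs, htri⟩ := pair_of_hasTri hT
  exact concl_of_case (not_comm_of_equiv e hna) hab hne hs (Or.inl htri) h2 (cls_of_equiv e h)

/-- `²F₄(q)` -/
theorem concl_twF {S : Type u} [Group S] [Finite S] [IsSimpleGroup S] (hna : ¬ IsMulCommutative S)
    (hG : IsLieTypeChar 2 S) (hF : Cfsg.Lie.Iso2F4 S) {π : Set ℕ} (h2 : 2 ∈ π)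
    {A : Subgroup (MulAut S)} (h : Cls π A) : Concl π S := by
  have hab := splitAb_two hG
  obtain ⟨K, i1, i2, m, hm, hK, ⟨e⟩⟩ := hF
  obtain ⟨Q, UE, s, t, hp, -, -, hf1, hf2⟩ := ParSys.Fam.TwoFFour.exists_all hm hK
  have hnt : Nontrivial ↥(Cfsg.Lie.twistedF4 K (2 ^ m)) := e.toEquiv.symm.nontrivial
  have hsim : IsSimpleGroup ↥(Cfsg.Lie.twistedF4 K (2 ^ m)) :=
    IsSimpleGroup.isSimpleGroup_of_surjective e.toMonoidHom e.surjective
  have hfin : Finite ↥(Cfsg.Lie.twistedF4 K (2 ^ m)) := Finite.of_equiv _ e.toEquiv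
  refine concl_of_equiv e ?_
  refine concl_of_case (not_comm_of_equiv e hna) (hab.congr e) ⟨s, ?_⟩ hp.split (Or.inr (Or.inr ⟨s, t, hp.S, hf1, hf2⟩)) h2
    (cls_of_equiv e h)
  rw [hp.S]
  exact Set.mem_insert _ _

/-- **Characteristic two.** -/
theorem cls_two {S : Type u} [Group S] [Finite S] [IsSimpleGroup S] (hna : ¬ IsMulCommutative S)
    (hG : IsLieTypeChar 2 S) {π : Set ℕ} (h2 : 2 ∈ π) {A : Subgroup (MulAut S)} (hA : Cls π A) : Concl π S := by
  have key : ∀ {T : Type} [Group T], (S ≃* T) → HasTri T → Concl π S := fun e hT => concl_of_hasTri hna hG e hT h2 hA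
  have one : ∀ (_ : (∃ (F : Type) (_ : Field F) (_ : Fintype F), CharP F 2 ∧ 4 ≤ Fintype.card F ∧
      Nonempty (S ≃* Matrix.ProjectiveSpecialLinearGroup (Fin 2) F)) ∨
    (∃ (F : Type) (_ : Field F) (_ : Fintype F) (_ : CharP F 2) (q : ℕ), Fintype.card F = q ^ 2 ∧ q ≠ 2 ∧
      Nonempty (S ≃* PSU 3 F q)) ∨ Cfsg.Lie.IsoSuzuki S), Concl π S := by
    intro h
    obtain ⟨P, U, hne, hs, hsub⟩ := Cfsg.Agent.H117.PC.rankOne h
    exact concl_of_case hna (splitAb_two hG) hne hs (Or.inr (Or.inl hsub)) h2 hA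
  rcases id hG with h | h | h | h | h | h | h | h | h | h | h
  · obtain ⟨F, _, _, _, n, hn, h4, ⟨e⟩⟩ := h
    rcases Nat.lt_or_ge n 3 with h3 | h3
    · obtain rfl : n = 2 := by omega
      exact one (Or.inl ⟨F, inferInstance, inferInstance, inferInstance, h4 rfl, ⟨e⟩⟩)
    · exact key e (hasTri_PSL (F := F) h3)
  · obtain ⟨F, _, _, _, m, hm, -, ⟨e⟩⟩ := h
    exact key e (Cfsg.Agent.H138.PIBS.hasTri_PSp hm)
  · obtain ⟨F, _, _, _, n, q, hF, hn, hq, ⟨e⟩⟩ := h
    rcases Nat.lt_or_ge n 4 with h3 | h3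
    · obtain rfl : n = 3 := by omega
      exact one (Or.inr (Or.inl ⟨F, inferInstance, inferInstance, inferInstance, q, hF,
        fun h2 => hq ⟨rfl, h2⟩, ⟨e⟩⟩))
    · exact key e (Cfsg.Agent.H138.PIBS.hasTri_PSU hF h3)
  · exact absurd h Cfsg.Agent.Omega.Lie.End.not_POmegaOdd
  · obtain ⟨F, _, _, _, m, hm, ⟨e⟩⟩ := h
    exact key e (hasTri_POmegaPlus (F := F) (show 3 ≤ m by omega))
  · obtain ⟨F, _, _, _, m, a, b, hm, hab, ⟨e⟩⟩ := h
    exact key e (Cfsg.Agent.H138.PIBS.hasTri_POmegaMinus a b hab (by omega))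
  · obtain ⟨F, _, _, _, h⟩ := h
    rcases h with ⟨-, ⟨e⟩⟩ | ⟨⟨e⟩⟩ | ⟨⟨e⟩⟩ | ⟨⟨e⟩⟩ | ⟨⟨e⟩⟩
    · exact key e (hasTri_G2 F)
    · exact key e (hasTri_F4 F)
    · exact key e (hasTri_E6 F)
    · exact key e (hasTri_E7 F)
    · exact key e (hasTri_E8 F)
  · obtain ⟨K, _, _, _, q, hq, h⟩ := h
    rcases h with ⟨hK, ⟨e⟩⟩ | ⟨hK, ⟨e⟩⟩
    · exact key e (hasTri_twE6 K hq hK)
    · exact key e (hasTri_twD4 K hq hK)
  · exact one (Or.inr (Or.inr h.2))
  · exact concl_twF hna hG h.2 h2 hA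
  · exact absurd h.1 (by norm_num)

/-- **Groups of Lie type, the characteristic in `π`: `S` is a `π`-group or `π` meets `|S|` only in 2.** -/
theorem cls_char {S : Type u} [Group S] [Finite S] [IsSimpleGroup S] (hna : ¬ IsMulCommutative S) {p : ℕ}
    (hp : p.Prime) (hG : IsLieTypeChar p S) {π : Set ℕ} (h2 : 2 ∈ π) (hpπ : p ∈ π) {A : Subgroup (MulAut S)}
    (h : Cls π A) : PiGrp π S ∨ ∀ r : ℕ, r.Prime → r ∈ π → r ∣ Nat.card S → r = 2 := by
  rcases eq_or_ne p 2 with rfl | hp2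
  · exact cls_two hna hG h2 h
  · exact Or.inl (cls_odd hp hp2 hG h2 hpπ h)

/-- **The rows of Lie type, the characteristic in `π`.** -/
theorem row_char {S : Type u} [Group S] [Finite S] [IsSimpleGroup S] (hna : ¬ IsMulCommutative S) {p : ℕ}
    (hp : p.Prime) (hG : IsLieTypeChar p S) {π : Set ℕ} (h2 : 2 ∈ π) (hpπ : p ∈ π) : Row π S := by
  intro A x l h
  rcases cls_char hna hp hG h2 hpπ h.cls with h3 | h3
  · exact h3
  · exact (Cfsg.Agent.H588.PC.false_of_two hna h h2 h3).elim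

end Cfsg.Agent.H443.PC
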