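import Mathlib

/-!
# S3876, row_char: all types of Hall subgroups are equal
-/

set_option autoImplicit false
set_option linter.unusedSectionVars false

open scoped Pointwise

namespace Cfsg.Agent.H443.PC

/-- A transitive set `T` of subsets of the diagram whose cardinality is odd (and prime to 3 if a member contains both ends
of a simple bond) and which covers the diagram is `{univ}`. -/
theorem types_eq {I : Type*} [Finite I] {M : CoxeterMatrix I}
    (hdiag : (∀ ρ : Equiv.Perm I, (∀ i j, M (ρ i) (ρ j) = M i j) → ρ ^ 2 = 1) ∨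
      ∃ z w : I, M z w = 3 ∧ ∀ ρ : Equiv.Perm I, (∀ i j, M (ρ i) (ρ j) = M i j) → ρ z = z ∧ ρ ^ 6 = 1)
    {T : Set (Set I)}
    (htr : ∀ J ∈ T, ∀ J' ∈ T, ∃ ρ : Equiv.Perm I, (∀ i j, M (ρ i) (ρ j) = M i j) ∧ (∀ K ∈ T, ρ '' K ∈ T) ∧ ρ '' J = J')
    (h2 : ¬ 2 ∣ Nat.card T)
    (h3 : ∀ z w, M z w = 3 → ∀ J ∈ T, z ∈ J → w ∈ J → ¬ 3 ∣ Nat.card T) (hU : ∀ i, ∃ J ∈ T, i ∈ J) :
    ∀ J ∈ T, J = Set.univ := by
  classical
  intro J0 hJ0
  let Γ : Subgroup (Equiv.Perm I) :=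
    { carrier := {ρ | (∀ i j, M (ρ i) (ρ j) = M i j) ∧ ∀ K : Set I, K ∈ T ↔ ρ '' K ∈ T}
      one_mem' := ⟨fun _ _ => rfl, fun K => by simp⟩
      mul_mem' := by
        rintro a b ⟨ha, ha'⟩ ⟨hb, hb'⟩
        refine ⟨fun i j => ?_, fun K => ?_⟩
        · rw [Equiv.Perm.mul_apply, Equiv.Perm.mul_apply, ha, hb]
        · rw [hb', ha', Set.image_image]
          rfl
      inv_mem' := by
        rintro a ⟨ha, ha'⟩
        refine ⟨fun i j => ?_, fun K => ?_⟩
        · have := ha (a⁻¹ i) (a⁻¹ j)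
          rw [show a (a⁻¹ i) = i from Equiv.apply_symm_apply a i, show a (a⁻¹ j) = j from Equiv.apply_symm_apply a j]
            at this
          exact this.symm
        · rw [ha' ((a⁻¹ : Equiv.Perm I) '' K), Set.image_image]
          simp }
  have hmemΓ : ∀ ρ : Equiv.Perm I, (∀ i j, M (ρ i) (ρ j) = M i j) → (∀ K ∈ T, ρ '' K ∈ T) → ρ ∈ Γ := by
    intro ρ h1 h2
    refine ⟨h1, fun K => ⟨h2 K, fun hK => ?_⟩⟩
    let f : T → T := fun K => ⟨ρ '' K.1, h2 K.1 K.2⟩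
    have hf : Function.Injective f := by
      intro K K' h
      have h4 : ρ '' K.1 = ρ '' K'.1 := congrArg Subtype.val h
      exact Subtype.ext (Set.image_injective.2 ρ.injective h4)
    obtain ⟨K', hK'⟩ := Finite.surjective_of_injective hf ⟨_, hK⟩
    have h4 : ρ '' K'.1 = ρ '' K := congrArg Subtype.val hK'
    rw [← Set.image_injective.2 ρ.injective h4]
    exact K'.2
  let _ : MulAction Γ T :=
    { smul := fun ρ K => ⟨(ρ : Equiv.Perm I) '' K.1, (ρ.2.2 K.1).1 K.2⟩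
      one_smul := fun K => Subtype.ext (by show ((1 : Equiv.Perm I) : I → I) '' K.1 = K.1; simp)
      mul_smul := fun a b K => Subtype.ext (by
        show ((a * b : Equiv.Perm I) : I → I) '' K.1 = (a : Equiv.Perm I) '' ((b : Equiv.Perm I) '' K.1)
        rw [Set.image_image]
        rfl) }
  have hsm : ∀ (ρ : Γ) (K : T), (ρ • K).1 = (ρ : Equiv.Perm I) '' K.1 := fun _ _ => rfl
  have hpt : MulAction.IsPretransitive Γ T := by
    refine ⟨fun K K' => ?_⟩
    obtain ⟨ρ, h1, h4, h5⟩ := htr K.1 K.2 K'.1 K'.2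
    exact ⟨⟨ρ, hmemΓ ρ h1 h4⟩, Subtype.ext h5⟩
  have hdvd : Nat.card T ∣ Nat.card Γ := by
    have h1 := MulAction.index_stabilizer_of_transitive (G := Γ) (x := (⟨J0, hJ0⟩ : T))
    rw [← h1]
    exact Subgroup.index_dvd_card _
  have hprime : ∀ r : ℕ, r.Prime → ¬ r ∣ Nat.card T := by
    intro r hr hrT
    have hrf : Fact r.Prime := ⟨hr⟩
    obtain ⟨ρ, hρ⟩ := exists_prime_orderOf_dvd_card' (G := Γ) r (hrT.trans hdvd)
    rcases hdiag with hd | ⟨z, w, hzw, hd⟩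
    · have h4 : ρ ^ 2 = 1 := Subtype.ext (hd ρ.1 ρ.2.1)
      have h5 : r ∣ 2 := by rw [← hρ]; exact orderOf_dvd_of_pow_eq_one h4
      rw [(Nat.prime_dvd_prime_iff_eq hr Nat.prime_two).1 h5] at hrT
      exact h2 hrT
    · have h4 : ρ ^ 6 = 1 := Subtype.ext (hd ρ.1 ρ.2.1).2
      have h5 : r ∣ 2 * 3 := by rw [← hρ]; exact orderOf_dvd_of_pow_eq_one h4
      rcases (hr.dvd_mul).1 h5 with h6 | h6
      · rw [(Nat.prime_dvd_prime_iff_eq hr Nat.prime_two).1 h6] at hrT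
        exact h2 hrT
      · rw [(Nat.prime_dvd_prime_iff_eq hr Nat.prime_three).1 h6] at hrT
        obtain ⟨J, hJ, hwJ⟩ := hU w
        obtain ⟨J', hJ', hzJ'⟩ := hU z
        refine h3 z w hzw J hJ ?_ hwJ hrT
        obtain ⟨τ, hτ1, -, hτ2⟩ := htr J' hJ' J hJ
        rw [← hτ2]
        exact ⟨z, hzJ', (hd τ hτ1).1⟩
  have hone : Nat.card T = 1 := by
    by_contra hne
    obtain ⟨r, hr, hrT⟩ := Nat.exists_prime_and_dvd hne
    exact hprime r hr hrT
  rw [Nat.card_eq_one_iff_unique] at hone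
  obtain ⟨hsub, -⟩ := hone
  rw [Set.eq_univ_iff_forall]
  intro i
  obtain ⟨J, hJ, hi⟩ := hU i
  have h4 : (⟨J, hJ⟩ : T) = ⟨J0, hJ0⟩ := Subsingleton.elim _ _
  have h5 : J = J0 := congrArg Subtype.val h4
  rwa [h5] at hi

end Cfsg.Agent.H443.PC
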