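import Cfsg.Agent.H443.PC.TwoMain
import Cfsg.Agent.H443.PC.Types
import Cfsg.Agent.H117.PC.RankOne
import Cfsg.Agent.H801.PC.P3a
import Cfsg.Agent.H138.PIBS.HasTri
import Cfsg.Agent.H417.PC.Diag
import Cfsg.Agent.H969.Rot.Three
import Cfsg.Agent.H470.Fam
import Cfsg.Agent.H716.SplitAb
import Cfsg.Agent.Mrg.ParSys.Fam.TwoFFour

/-!
# S3876, row_char, characteristic two
-/

set_option autoImplicit false
set_option linter.unusedSectionVars false

open scoped Pointwise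

namespace Cfsg.Agent.H443.PC

open Cfsg Subgroup Cfsg.Agent.Tits.Core Cfsg.Agent.Tits.Core.Bldg Cfsg.Agent.Tits Cfsg.Agent.Tits.OfBN
open Cfsg.Agent.FixBN Cfsg.Agent.LieExceptional.BNPairCore Cfsg.Agent.Tits.OppRes
open Cfsg.Agent.H469.PiBS Cfsg.Agent.H454.PiBS

/-- **Every node lies in a type: the group is a `π`-group** (any characteristic). -/
theorem pigrp_of_types {K : Type*} [Group K] [Finite K] [IsSimpleGroup K] {P : Cfsg.BNPair K} {U : Subgroup K}
    [hN : ((P.B ⊓ P.N).subgroupOf P.N).Normal] {p : ℕ} [hp : Fact p.Prime]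
    {M : CoxeterMatrix P.S} (cs : CoxeterSystem M (WP P))
    (hcs : ∀ i, cs.simple i = QuotientGroup.mk (⟨((Equiv.refl P.S) i : K), P.subset ((Equiv.refl P.S) i).2⟩ : P.N))
    (hne : P.S.Nonempty) (hs : Split P p U) {π : Set ℕ} (hpi : p ∈ π) (h2 : 2 ∈ π)
    {A : Subgroup (MulAut K)} (h : Cls π A)
    (hall : ∀ i, ∃ J ∈ TySet (OfBN.sys (Equiv.refl P.S) cs hcs hs) π, i ∈ J) : PiGrp π K := by
  have hI : Finite P.S := OfBN.finite_I (Equiv.refl P.S)
  have hC : Cox cs := inferInstance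
  have hth := thick P (Equiv.refl P.S) cs hcs
  set S := OfBN.sys (Equiv.refl P.S) cs hcs hs with hS
  have hfin : Finite M.Group := Finite.of_equiv _ cs.mulEquiv.toEquiv
  have hconn : ∀ J : Set P.S, J.Nonempty → (∀ i ∈ J, ∀ j ∉ J, M i j = 2) → J = Set.univ := by
    intro J hJ hJ2
    by_contra hne'
    obtain ⟨i, hi, j, hj, hij⟩ := H470.Core.conn_of_simple S hth H519.SplitRes.homog hJ hne'
    apply hij
    have h3 := cs.simple_mul_simple_pow i j
    rw [hJ2 i hi j hj, pow_two] at h3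
    have h4 := eq_inv_of_mul_eq_one_left h3
    rw [mul_inv_rev, cs.inv_simple, cs.inv_simple] at h4
    exact h4
  have htw : ∀ a ∈ A, ∃ t : FixOdd.Tw (bldg P (Equiv.refl P.S) cs hcs) K, t.τ = a := fun a _ => by
    obtain ⟨t, ht, -⟩ := FixOdd.exists_tw hs (Equiv.refl P.S) cs hcs a
    exact ⟨t, ht⟩
  have hTy : ∀ J ∈ TySet S π, J = Set.univ := by
    refine types_eq (M := M) (Cfsg.Agent.H417.PC.diag hfin hconn) ?_
      (cls_not_dvd S hth hpi h htw Nat.prime_two h2) ?_ hall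
    · intro J hJ J' hJ'
      obtain ⟨b, hb, hbt⟩ := cls_trans S hth hpi h hJ hJ'
      obtain ⟨t, ht⟩ := htw b hb
      exact ⟨t.σ, tw_mem_autM t, fun K' hK' => image_mem_TySet S t hK', hbt t ht⟩
    · rintro z w hzw J ⟨H, hH, x, hx, rfl⟩ hz hw
      refine cls_not_dvd S hth hpi h htw Nat.prime_three (hH.1 3 Nat.prime_three ?_)
      exact Cfsg.Agent.H969.Rot.three_dvd S hx hzw hz hw
  obtain ⟨J, hJ⟩ := cls_nonempty S hpi h
  have hJu := hTy J hJ
  obtain ⟨H, hH, x, hx, hHJ⟩ := hJ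
  obtain ⟨s, hsS⟩ := hne
  have htop : H = ⊤ := eq_top S (gen_of_simple S ⟨x, U_ne_bot S hth ⟨s, hsS⟩ x⟩) hx (hHJ.trans hJu)
  intro q hq hd
  refine hH.1 q hq ?_
  rwa [htop, Subgroup.card_top]

/-- the conclusion: `S` is a `π`-group or `p` is the only prime of `π` dividing its order -/
def Concl (π : Set ℕ) (K : Type*) [Group K] : Prop :=
  PiGrp π K ∨ ∀ r : ℕ, r.Prime → r ∈ π → r ∣ Nat.card K → r = 2

/-- from a suitable split (B, N)-pair -/
theorem concl_of_case {K : Type*} [Group K] [Finite K] [IsSimpleGroup K] (hna : ¬ IsMulCommutative K)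
    (hab : H463.LieAb.SplitAb 2 K) {P : Cfsg.BNPair K} {U : Subgroup K} (hne : P.S.Nonempty) (hs : Split P 2 U)
    (hcase : (∀ s ∈ P.S, TriB P s) ∨ P.S.Subsingleton ∨
      (∃ s t : K, P.S = {s, t} ∧ Cfsg.Agent.ParSys.FpfR P U s t ∧ Cfsg.Agent.ParSys.FpfR P U t s))
    {π : Set ℕ} (h2 : 2 ∈ π) {A : Subgroup (MulAut K)} (h : Cls π A) : Concl π K := by
  have : Fact (Nat.Prime 2) := ⟨Nat.prime_two⟩
  obtain ⟨P', U', -, hs', hT'⟩ := hab
  have hT := H470.comm_transfer hs hs' hT'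
  have hc := H470.comm_mem hs hT
  have hN : ((P.B ⊓ P.N).subgroupOf P.N).Normal := normal_subgroupOf P
  obtain ⟨M, cs, hcs⟩ := S0320.result P
  have hI : Finite P.S := OfBN.finite_I (Equiv.refl P.S)
  have hC : Cox cs := inferInstance
  rcases all_types_two (Equiv.refl P.S) cs hcs hs hT h2 hna hc h hcase with h3 | h3
  · exact Or.inl (pigrp_of_types cs hcs hne hs h2 h2 h h3)
  · exact Or.inr h3

end Cfsg.Agent.H443.PC
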