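import Cfsg.Agent.H443.PC.TwoSys
import Cfsg.Agent.FixBN.OfBN

/-!
# S3876, row_char, characteristic two: split (B, N)-pairs

* `triAt_of_triB` : `TriB P s` gives `TriAt` at all panels of type `s`;
* `exists_fix_torus` : a node in no type: the torus elements of `π`-order and an involution of `N` fix a common chamber of
  the panel; `comm_of_not_type` : they commute.
-/

set_option autoImplicit false
set_option linter.unusedSectionVars false

open scoped Pointwise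

namespace Cfsg.Agent.H443.PC

open Cfsg Subgroup Cfsg.Agent.Tits.Core Cfsg.Agent.Tits.Core.Bldg Cfsg.Agent.Tits Cfsg.Agent.Tits.OfBN
open Cfsg.Agent.FixBN Cfsg.Agent.LieExceptional.BNPairCore Cfsg.Agent.Tits.OppRes
open Cfsg.Agent.H469.PiBS Cfsg.Agent.H454.PiBS

section geom

variable {K : Type*} [Group K] {P : Cfsg.BNPair K} {U : Subgroup K} [hN : ((P.B ⊓ P.N).subgroupOf P.N).Normal]
  {I : Type*} {M : CoxeterMatrix I} (e : I ≃ P.S) (cs : CoxeterSystem M (WP P))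
  (hcs : ∀ i, cs.simple i = QuotientGroup.mk (⟨(e i : K), P.subset (e i).2⟩ : P.N))

/-- the chambers `B` and `sB` are adjacent -/
theorem base_adj (i : I) :
    (bldg P e cs hcs).δ (QuotientGroup.mk (1 : K)) (QuotientGroup.mk ((e i : K))) = cs.simple i := by
  rw [bldg_δ_mk, hcs]
  apply wt_of_mem P
  rw [inv_one, one_mul]
  exact self_mem_C _

theorem iso (g : K) (x y : K ⧸ P.B) : (bldg P e cs hcs).δ (g • x) (g • y) = (bldg P e cs hcs).δ x y :=
  dist_smul P g x y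

theorem smul_mem_Pan {i : I} {x y : K ⧸ P.B} {a : K} (ha : a • x = x) (hy : y ∈ (bldg P e cs hcs).Pan i x) :
    a • y ∈ (bldg P e cs hcs).Pan i x := by
  rcases hy with rfl | h
  · rw [ha]
    exact Or.inl rfl
  · right
    rw [← h]
    conv_lhs => rw [← ha]
    exact iso e cs hcs a x y

theorem pan_symm {i : I} {x y : K ⧸ P.B} (hy : y ∈ (bldg P e cs hcs).Pan i x) :
    (bldg P e cs hcs).Pan i y = (bldg P e cs hcs).Pan i x := by
  rw [(bldg P e cs hcs).Pan_eq_Res, (bldg P e cs hcs).Pan_eq_Res]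
  refine (bldg P e cs hcs).Res_eq_of_mem ?_
  rwa [← (bldg P e cs hcs).Pan_eq_Res]

/-- **`TriB` gives `TriAt`** -/
theorem triAt_of_triB [Finite K] [hp : Fact (Nat.Prime 2)] (hs : Split P 2 U) {i : I} (h : TriB P (e i)) (x : K ⧸ P.B) :
    TriAt (bldg P e cs hcs) K i x := by
  set S := OfBN.sys e cs hcs hs with hS
  -- it is enough to do the base chamber
  suffices hbase : TriAt (bldg P e cs hcs) K i (QuotientGroup.mk (1 : K)) by
    obtain ⟨a, b, ha, hb, hab, haD, hbD, hnf⟩ := hbase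
    induction x using QuotientGroup.induction_on with
    | _ g =>
    have hg : (QuotientGroup.mk g : K ⧸ P.B) = g • QuotientGroup.mk (1 : K) := by
      rw [OfBN.smul_mk, mul_one]
    have hD : ∀ y, y ∈ (bldg P e cs hcs).Pan i (QuotientGroup.mk g : K ⧸ P.B) ↔
        g⁻¹ • y ∈ (bldg P e cs hcs).Pan i (QuotientGroup.mk (1 : K) : K ⧸ P.B) := by
      intro y
      show (y = _ ∨ _) ↔ (g⁻¹ • y = _ ∨ _)
      rw [hg, ← iso e cs hcs g _ (g⁻¹ • y), smul_inv_smul, inv_smul_eq_iff]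
    refine ⟨g * a * g⁻¹, g * b * g⁻¹, ?_, ?_, ?_, ?_, ?_, ?_⟩
    · calc g * a * g⁻¹ * (g * a * g⁻¹) = g * (a * a) * g⁻¹ := by group
        _ = 1 := by rw [ha, mul_one, mul_inv_cancel]
    · calc g * b * g⁻¹ * (g * b * g⁻¹) = g * (b * b) * g⁻¹ := by group
        _ = 1 := by rw [hb, mul_one, mul_inv_cancel]
    · calc g * a * g⁻¹ * (g * b * g⁻¹) * (g * a * g⁻¹) * (g * b * g⁻¹) * (g * a * g⁻¹) * (g * b * g⁻¹) =
          g * (a * b * a * b * a * b) * g⁻¹ := by group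
        _ = 1 := by rw [hab, mul_one, mul_inv_cancel]
    · intro y hy
      rw [hD] at hy ⊢
      rw [mul_smul, mul_smul, inv_smul_smul]
      exact haD _ hy
    · intro y hy
      rw [hD] at hy ⊢
      rw [mul_smul, mul_smul, inv_smul_smul]
      exact hbD _ hy
    · rintro y hy ⟨h1, h2⟩
      rw [hD] at hy
      refine hnf _ hy ⟨?_, ?_⟩
      · rw [mul_smul, mul_smul] at h1
        exact (eq_inv_smul_iff.2 h1)
      · rw [mul_smul, mul_smul] at h2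
        exact (eq_inv_smul_iff.2 h2)
  obtain ⟨a, b, haB, has, hbB, hbs, ha, hb, hab⟩ := h
  have hadj := base_adj (P := P) e cs hcs i
  have hax : a • (QuotientGroup.mk (1 : K) : K ⧸ P.B) = QuotientGroup.mk (1 : K) :=
    OfBN.smul_mk_eq.2 (by rwa [inv_one, one_mul, mul_one])
  have hby : b • (QuotientGroup.mk (e i : K) : K ⧸ P.B) = QuotientGroup.mk (e i : K) :=
    OfBN.smul_mk_eq.2 hbs
  have hyD : (QuotientGroup.mk (e i : K) : K ⧸ P.B) ∈ (bldg P e cs hcs).Pan i (QuotientGroup.mk (1 : K)) :=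
    (bldg P e cs hcs).mem_Pan_of_δ hadj
  have hpan := pan_symm e cs hcs hyD
  have hU : ∀ (c : K) (z : K ⧸ P.B), c * c = 1 → c • z = z → c ∈ S.U z := by
    intro c z hc hcz
    have h1 : IsPGroup 2 (zpowers c) := by
      rintro ⟨d, k, rfl⟩
      refine ⟨1, Subtype.ext ?_⟩
      show (c ^ k) ^ (2 ^ 1) = 1
      rw [← zpow_natCast, ← zpow_mul, mul_comm, zpow_mul]
      have h3 : c ^ ((2 ^ 1 : ℕ) : ℤ) = 1 := by
        rw [zpow_natCast, pow_one, pow_two, hc]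
      rw [h3, one_zpow]
    refine S.max z _ h1 ?_ (mem_zpowers c)
    intro v hv
    exact ((zpowers_le).2 (show c ∈ MulAction.stabilizer K z from hcz)) hv
  refine ⟨a, b, ha, hb, hab, fun y hy => smul_mem_Pan e cs hcs hax hy, fun y hy => ?_, ?_⟩
  · rw [← hpan] at hy ⊢
    exact smul_mem_Pan e cs hcs hby hy
  · rintro y hy ⟨h1, h2⟩
    -- `a` fixes only the base chamber
    have hy1 : y = QuotientGroup.mk (1 : K) := by
      rcases hy with h3 | h3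
      · exact h3
      · exfalso
        apply has
        have h4 := S.pan _ y i h3 a (hU a _ ha hax) h1 _ hyD
        exact OfBN.smul_mk_eq.1 h4
    -- `b` does not fix it
    apply hbB
    rw [hy1] at h2
    have := OfBN.smul_mk_eq.1 h2
    rwa [inv_one, one_mul, mul_one] at this

/-- the `π`-elements of the torus -/
def Tpi (P : Cfsg.BNPair K) (π : Set ℕ) (hT : ∀ a ∈ P.B ⊓ P.N, ∀ b ∈ P.B ⊓ P.N, a * b = b * a) : Subgroup K where
  carrier := {a | a ∈ P.B ⊓ P.N ∧ ∀ r : ℕ, r.Prime → r ∣ orderOf a → r ∈ π}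
  one_mem' := ⟨one_mem _, fun r hr hd => by
    rw [orderOf_one] at hd
    exact absurd (Nat.dvd_one.1 hd) hr.one_lt.ne'⟩
  mul_mem' := by
    rintro a b ⟨ha, ha'⟩ ⟨hb, hb'⟩
    refine ⟨mul_mem ha hb, fun r hr hd => ?_⟩
    have h1 : Commute a b := hT a ha b hb
    rcases (hr.dvd_mul).1 (hd.trans h1.orderOf_mul_dvd_mul_orderOf) with h2 | h2
    · exact ha' r hr h2
    · exact hb' r hr h2
  inv_mem' := by
    rintro a ⟨ha, ha'⟩
    refine ⟨inv_mem ha, fun r hr hd => ha' r hr ?_⟩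
    rwa [orderOf_inv] at hd

theorem mem_Tpi {π : Set ℕ} {hT : ∀ a ∈ P.B ⊓ P.N, ∀ b ∈ P.B ⊓ P.N, a * b = b * a} {a : K} :
    a ∈ Tpi P π hT ↔ a ∈ P.B ⊓ P.N ∧ ∀ r : ℕ, r.Prime → r ∣ orderOf a → r ∈ π := Iff.rfl

theorem pi_Tpi [Finite K] {π : Set ℕ} {hT : ∀ a ∈ P.B ⊓ P.N, ∀ b ∈ P.B ⊓ P.N, a * b = b * a} :
    IsPiSubgroup π (Tpi P π hT) := by
  intro r hr hd
  have : Fact r.Prime := ⟨hr⟩
  obtain ⟨x, hx⟩ := exists_prime_orderOf_dvd_card' (G := Tpi P π hT) r hd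
  refine x.2.2 r hr ?_
  rw [Subgroup.orderOf_coe, hx]

theorem conj_Tpi {π : Set ℕ} {hT : ∀ a ∈ P.B ⊓ P.N, ∀ b ∈ P.B ⊓ P.N, a * b = b * a} {n a : K} (hn : n ∈ P.N)
    (ha : a ∈ Tpi P π hT) : n * a * n⁻¹ ∈ Tpi P π hT := by
  refine ⟨Subgroup.mem_inf.2 ⟨P.conj_mem n hn a ha.1,
    mul_mem (mul_mem hn (Subgroup.mem_inf.1 ha.1).2) (inv_mem hn)⟩, fun r hr hd => ha.2 r hr ?_⟩
  have h1 : orderOf (n * a * n⁻¹) = orderOf a := orderOf_injective (MulAut.conj n).toMonoidHom (MulAut.conj n).injective a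
  rwa [h1] at hd

/-- **A node in no type: a common fixed chamber in the panel.** -/
theorem exists_fix_torus [Finite K] [hp : Fact (Nat.Prime 2)] [OppRes.Cox cs] (hs : Split P 2 U)
    {hT : ∀ a ∈ P.B ⊓ P.N, ∀ b ∈ P.B ⊓ P.N, a * b = b * a} {π : Set ℕ} (h2 : 2 ∈ π)
    (hdom : ∀ K' : Subgroup K, IsPiSubgroup π K' → ∃ H : Subgroup K, IsPiHall π H ∧ K' ≤ H) {i : I}
    (hi : ∀ J ∈ TySet (OfBN.sys e cs hcs hs) π, i ∉ J) :
    ∃ (z : K ⧸ P.B) (t : K), z ∈ (bldg P e cs hcs).Pan i (QuotientGroup.mk (1 : K)) ∧ z ≠ QuotientGroup.mk (1 : K) ∧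
      z ≠ QuotientGroup.mk (e i : K) ∧ (∀ a ∈ Tpi P π hT, a • z = z) ∧ t ∈ P.B ⊓ P.N ∧
      ((e i : K) * t) * ((e i : K) * t) = 1 ∧ ((e i : K) * t) • z = z := by
  set S := OfBN.sys e cs hcs hs with hS
  obtain ⟨s, hse⟩ : ∃ s : K, s = e i := ⟨_, rfl⟩
  have hsN : s ∈ P.N := hse ▸ P.subset (e i).2
  have hss : s * s ∈ P.B ⊓ P.N := Subgroup.mem_inf.2 ⟨hse ▸ P.sq_mem _ (e i).2, mul_mem hsN hsN⟩
  obtain ⟨m, hm, hH⟩ := hs.tor
  obtain ⟨k, hk⟩ : ∃ k, m = 2 * k + 1 := ⟨m / 2, by omega⟩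
  set t : K := (s * s) ^ k with ht
  have htT : t ∈ P.B ⊓ P.N := pow_mem hss k
  set n := s * t with hn
  have hnN : n ∈ P.N := mul_mem hsN (Subgroup.mem_inf.1 htT).2
  have hn2 : n * n = 1 := by
    have h1 : n = s ^ (2 * k + 1) := by
      rw [hn, ht, ← pow_two, ← pow_mul, pow_succ']
    have h3 : (s * s) ^ m = 1 := hH _ (Subgroup.mem_inf.1 hss).1 (Subgroup.mem_inf.1 hss).2
    rw [h1, ← (Commute.refl s).mul_pow, ← hk, h3]
  have hadj := base_adj (P := P) e cs hcs i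
  rw [← hse] at hadj
  have hnx : n • (QuotientGroup.mk (1 : K) : K ⧸ P.B) = QuotientGroup.mk s := by
    rw [OfBN.smul_mk, mul_one, OfBN.mk_eq, hn]
    have h1 : (s * t)⁻¹ * s = t⁻¹ := by group
    rw [h1]
    exact inv_mem (Subgroup.mem_inf.1 htT).1
  have hny : n • (QuotientGroup.mk s : K ⧸ P.B) = QuotientGroup.mk (1 : K) := by
    rw [← hnx, ← mul_smul, hn2, one_smul]
  have hsx : (QuotientGroup.mk s : K ⧸ P.B) ≠ QuotientGroup.mk (1 : K) := by
    intro h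
    rw [h, ((bldg P e cs hcs).eq_one _ _).2 rfl] at hadj
    have h5 := cs.length_simple i
    rw [← hadj, cs.length_one] at h5
    exact absurd h5 (by norm_num)
  have hsR : (QuotientGroup.mk s : K ⧸ P.B) ∈ (bldg P e cs hcs).Res {i} (QuotientGroup.mk (1 : K)) :=
    mem_Res_single.2 (Or.inr hadj)
  have hzp : IsPGroup 2 (zpowers n) := by
    rintro ⟨d, j, rfl⟩
    refine ⟨1, Subtype.ext ?_⟩
    show (n ^ j) ^ (2 ^ 1) = 1
    rw [← zpow_natCast, ← zpow_mul, mul_comm, zpow_mul]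
    have h3 : n ^ ((2 ^ 1 : ℕ) : ℤ) = 1 := by
      rw [zpow_natCast, pow_one, pow_two, hn2]
    rw [h3, one_zpow]
  have hY : IsPiSubgroup π (zpowers n ⊔ Tpi P π hT) := by
    refine pi_sup ?_ (pi_of_pGroup h2 hzp) pi_Tpi
    rw [zpowers_le, mem_normalizer_iff]
    intro a
    refine ⟨fun ha => conj_Tpi hnN ha, fun ha => ?_⟩
    have h3 := conj_Tpi (inv_mem hnN) ha
    have h4 : n⁻¹ * (n * a * n⁻¹) * n⁻¹⁻¹ = a := by group
    rwa [h4] at h3
  have hst : zpowers n ⊔ Tpi P π hT ≤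
      MulAction.stabilizer K ((bldg P e cs hcs).Res {i} (QuotientGroup.mk (1 : K))) := by
    refine sup_le ?_ ?_
    · rw [zpowers_le, MulAction.mem_stabilizer_iff, S.smul_Res, hnx]
      exact (bldg P e cs hcs).Res_eq_of_mem hsR
    · intro a ha
      rw [MulAction.mem_stabilizer_iff, S.smul_Res]
      have h1 : a • (QuotientGroup.mk (1 : K) : K ⧸ P.B) = QuotientGroup.mk (1 : K) :=
        OfBN.smul_mk_eq.2 (by
          rw [inv_one, one_mul, mul_one]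
          exact (Subgroup.mem_inf.1 ha.1).1)
      rw [h1]
  obtain ⟨z, hz, hfix⟩ := exists_fix_of_not_type S (thick P e cs hcs) hdom h2 hi hY
    (x := (QuotientGroup.mk (1 : K) : K ⧸ P.B)) (fun g hg => MulAction.mem_stabilizer_iff.1 (hst hg))
  have hnz : n • z = z := hfix n (mem_sup_left (mem_zpowers n))
  rw [← hse]
  refine ⟨z, t, by rwa [pan_eq], ?_, ?_, fun a ha => hfix a (mem_sup_right ha), htT, hn2, hnz⟩
  · rintro rfl
    rw [hnx] at hnz
    exact hsx hnz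
  · rintro rfl
    rw [hny] at hnz
    exact hsx hnz.symm

/-- **A node in no type commutes with the `π`-part of the torus.** -/
theorem comm_of_not_type [Finite K] [hp : Fact (Nat.Prime 2)] [OppRes.Cox cs] (hs : Split P 2 U)
    {hT : ∀ a ∈ P.B ⊓ P.N, ∀ b ∈ P.B ⊓ P.N, a * b = b * a} {π : Set ℕ} (h2 : 2 ∈ π)
    (hdom : ∀ K' : Subgroup K, IsPiSubgroup π K' → ∃ H : Subgroup K, IsPiHall π H ∧ K' ≤ H) {i : I}
    (hi : ∀ J ∈ TySet (OfBN.sys e cs hcs hs) π, i ∉ J) {a : K} (ha : a ∈ Tpi P π hT) :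
    (e i : K) * a = a * (e i : K) := by
  set S := OfBN.sys e cs hcs hs with hS
  obtain ⟨z, t, -, -, -, hfix, ht, hn2, hnz⟩ := exists_fix_torus e cs hcs hs (hT := hT) h2 hdom hi
  obtain ⟨s, hse⟩ : ∃ s : K, s = e i := ⟨_, rfl⟩
  rw [← hse] at hn2 hnz ⊢
  have hsN : s ∈ P.N := hse ▸ P.subset (e i).2
  obtain ⟨n, hn⟩ : ∃ n, n = s * t := ⟨_, rfl⟩
  rw [← hn] at hn2 hnz
  have hnN : n ∈ P.N := hn ▸ mul_mem hsN (Subgroup.mem_inf.1 ht).2
  have hninv : n⁻¹ = n := inv_eq_of_mul_eq_one_left hn2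
  have hzp : IsPGroup 2 (zpowers n) := by
    rintro ⟨d, j, rfl⟩
    refine ⟨1, Subtype.ext ?_⟩
    show (n ^ j) ^ (2 ^ 1) = 1
    rw [← zpow_natCast, ← zpow_mul, mul_comm, zpow_mul]
    have h3 : n ^ ((2 ^ 1 : ℕ) : ℤ) = 1 := by
      rw [zpow_natCast, pow_one, pow_two, hn2]
    rw [h3, one_zpow]
  have hnU : n ∈ S.U z := by
    refine S.max z _ hzp ?_ (mem_zpowers n)
    intro v hv
    exact ((zpowers_le).2 (show n ∈ MulAction.stabilizer K z from hnz)) hv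
  have h1 : a * n⁻¹ * a⁻¹ ∈ S.U z := by
    have := S.conj_mem_U (inv_mem hnU) a
    rwa [hfix a ha] at this
  have h3 : n * (a * n⁻¹ * a⁻¹) ∈ S.U z := mul_mem hnU h1
  have h4 : n * (a * n⁻¹ * a⁻¹) ∈ P.B ⊓ P.N := by
    have h5 : n * (a * n⁻¹ * a⁻¹) = (n * a * n⁻¹) * a⁻¹ := by group
    rw [h5]
    exact mul_mem (conj_Tpi hnN ha).1 (inv_mem ha.1)
  -- a 2-element of odd order
  have h5 : n * (a * n⁻¹ * a⁻¹) = 1 := by
    obtain ⟨k, hk⟩ := S.isP z ⟨_, h3⟩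
    have hk' : (n * (a * n⁻¹ * a⁻¹)) ^ 2 ^ k = 1 := congrArg Subtype.val hk
    obtain ⟨m, hm, hH⟩ := hs.tor
    have hm' := hH _ (Subgroup.mem_inf.1 h4).1 (Subgroup.mem_inf.1 h4).2
    have hcop : Nat.Coprime m (2 ^ k) :=
      Nat.Coprime.pow_right _ ((Nat.Prime.coprime_iff_not_dvd Nat.prime_two).2 hm).symm
    have h6 : orderOf (n * (a * n⁻¹ * a⁻¹)) = 1 :=
      Nat.eq_one_of_dvd_coprimes hcop (orderOf_dvd_of_pow_eq_one hm') (orderOf_dvd_of_pow_eq_one hk')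
    exact orderOf_eq_one_iff.1 h6
  have h6 : n * a = a * n := by
    have h7 : n * (a * n⁻¹ * a⁻¹) * (a * n) = n * a := by group
    rw [h5, one_mul] at h7
    exact h7.symm
  have h7 : s = n * t⁻¹ := by rw [hn]; group
  have h8 : t⁻¹ * a = a * t⁻¹ := hT _ (inv_mem ht) _ ha.1
  rw [h7, mul_assoc, h8, ← mul_assoc, h6, mul_assoc]

end geom

end Cfsg.Agent.H443.PC
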