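import Cfsg.Agent.H443.PC.TwoBN
import Cfsg.Agent.H443.PC.ClsTy
import Cfsg.Agent.H842.PC.Burnside
import Cfsg.Agent.Mrg.ParSys.Par

/-!
# S3876, row_char, characteristic two: every node lies in a type
-/

set_option autoImplicit false
set_option linter.unusedSectionVars false

open scoped Pointwise

namespace Cfsg.Agent.H443.PC

open Cfsg Subgroup Cfsg.Agent.Tits.Core Cfsg.Agent.Tits.Core.Bldg Cfsg.Agent.Tits Cfsg.Agent.Tits.OfBN
open Cfsg.Agent.FixBN Cfsg.Agent.LieExceptional.BNPairCore Cfsg.Agent.Tits.OppRes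
open Cfsg.Agent.H469.PiBS Cfsg.Agent.H454.PiBS

variable {K : Type*} [Group K] [Finite K] {P : Cfsg.BNPair K} {U : Subgroup K} [hN : ((P.B ⊓ P.N).subgroupOf P.N).Normal]
  {I : Type*} {M : CoxeterMatrix I} (e : I ≃ P.S) (cs : CoxeterSystem M (WP P))
  (hcs : ∀ i, cs.simple i = QuotientGroup.mk (⟨(e i : K), P.subset (e i).2⟩ : P.N))
  [hp : Fact (Nat.Prime 2)] [OppRes.Cox cs] (hs : Split P 2 U)
  (hT : ∀ a ∈ P.B ⊓ P.N, ∀ b ∈ P.B ⊓ P.N, a * b = b * a) {π : Set ℕ} (h2 : 2 ∈ π)
  (hdom : ∀ K' : Subgroup K, IsPiSubgroup π K' → ∃ H : Subgroup K, IsPiHall π H ∧ K' ≤ H)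

section tri

include h2 hdom

/-- **All nodes have a symmetric group of degree three: one node in a type => all.** -/
theorem all_of_tri (htri : ∀ s ∈ P.S, TriB P s) {i0 : I} (h0 : ∃ J ∈ TySet (OfBN.sys e cs hcs hs) π, i0 ∈ J) (i : I) :
    ∃ J ∈ TySet (OfBN.sys e cs hcs hs) π, i ∈ J := by
  obtain ⟨J, ⟨H, hH, z, hz, rfl⟩, hi0⟩ := h0
  have h3 : 3 ∈ π := by
    refine hH.1 3 Nat.prime_three ?_
    exact three_dvd_of_tri (OfBN.sys e cs hcs hs) (thick P e cs hcs) hz hi0
      (triAt_of_triB e cs hcs hs (htri _ (e i0).2) z)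
  exact exists_type_of_tri (OfBN.sys e cs hcs hs) (thick P e cs hcs) hdom h2 h2 h3
    (triAt_of_triB e cs hcs hs (htri _ (e i).2) (QuotientGroup.mk (1 : K)))

end tri

section fpf

/-- a torus element of the rank one group of `j`, where `j` lies in a type, is a `π`-element -/
theorem mem_Tpi_of_Rone {j : I} (hj : ∃ J ∈ TySet (OfBN.sys e cs hcs hs) π, j ∈ J) {h : K}
    (hh : h ∈ Cfsg.Agent.ParSys.Rone U (e j : K)) (hhT : h ∈ P.B ⊓ P.N) : h ∈ Tpi P π hT := by
  obtain ⟨J, ⟨H, hH, z, hz, rfl⟩, hj⟩ := hj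
  set S := OfBN.sys e cs hcs hs with hS
  induction z using QuotientGroup.induction_on with
  | _ g =>
  have hgH : g * h * g⁻¹ ∈ H := by
    have h1 : Cfsg.Agent.ParSys.Rone U (e j : K) ≤ H.comap (MulAut.conj g).toMonoidHom := by
      refine sup_le ?_ ?_
      · intro u hu
        rw [Subgroup.mem_comap]
        refine hz ?_
        show g * u * g⁻¹ ∈ OfBN.UU P U (QuotientGroup.mk g)
        rw [OfBN.mem_UU hs]
        have e1 : g⁻¹ * (g * u * g⁻¹) * g = u := by group
        rwa [e1]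
      · rintro _ ⟨u, hu, rfl⟩
        rw [Subgroup.mem_comap]
        have hadj : (bldg P e cs hcs).δ (QuotientGroup.mk g) (QuotientGroup.mk (g * (e j : K))) = cs.simple j := by
          have h3 := base_adj (P := P) e cs hcs j
          rw [← iso e cs hcs g, OfBN.smul_mk, OfBN.smul_mk, mul_one] at h3
          exact h3
        refine U_le_of_mem_Pan S hz hj ((bldg P e cs hcs).mem_Pan_of_δ hadj) ?_
        show g * ((e j : K) * u * (e j : K)⁻¹) * g⁻¹ ∈ OfBN.UU P U (QuotientGroup.mk (g * (e j : K)))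
        rw [OfBN.mem_UU hs]
        have e1 : (g * (e j : K))⁻¹ * (g * ((e j : K) * u * (e j : K)⁻¹) * g⁻¹) * (g * (e j : K)) = u := by group
        rwa [e1]
    exact h1 hh
  refine ⟨hhT, fun r hr hd => hH.1 r hr (hd.trans ?_)⟩
  have h1 : orderOf (g * h * g⁻¹) = orderOf h :=
    orderOf_injective (MulAut.conj g).toMonoidHom (MulAut.conj g).injective h
  rw [← h1]
  exact Subgroup.orderOf_dvd_natCard H hgH

include h2 hdom hT

/-- **A fixed point free torus element: `j` in a type => `i` in a type.** -/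
theorem type_of_fpf {i j : I} (hf : Cfsg.Agent.ParSys.FpfR P U (e i : K) (e j : K))
    (hj : ∃ J ∈ TySet (OfBN.sys e cs hcs hs) π, j ∈ J) : ∃ J ∈ TySet (OfBN.sys e cs hcs hs) π, i ∈ J := by
  by_contra hcon
  push Not at hcon
  set S := OfBN.sys e cs hcs hs with hS
  obtain ⟨h, hh, hhT, hfp⟩ := hf
  have hhpi := mem_Tpi_of_Rone e cs hcs hs hT hj hh hhT
  obtain ⟨z, t, hz, hz1, hz2, hfix, -, -, -⟩ := exists_fix_torus e cs hcs hs (hT := hT) h2 hdom hcon
  obtain ⟨s, hse⟩ : ∃ s : K, s = e i := ⟨_, rfl⟩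
  have hadj := base_adj (P := P) e cs hcs i
  rw [← hse] at hfp hz2 hadj
  have hsN : s ∈ P.N := hse ▸ P.subset (e i).2
  have hz' : (bldg P e cs hcs).δ (QuotientGroup.mk (1 : K)) z = cs.simple i := by
    rcases hz with h | h
    · exact absurd h hz1
    · exact h
  obtain ⟨u, hu, huz⟩ := S.exists_move (hadj.trans hz'.symm)
  have hu' : u ∈ U := by
    have h3 : u ∈ OfBN.UU P U (QuotientGroup.mk (1 : K)) := hu
    rw [OfBN.mem_UU hs] at h3
    rwa [inv_one, one_mul, mul_one] at h3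
  have huz' : (QuotientGroup.mk (u * s) : K ⧸ P.B) = z := huz
  have hhz := hfix h hhpi
  rw [← huz'] at hhz
  have h3 : (u * s)⁻¹ * h * (u * s) ∈ P.B := OfBN.smul_mk_eq.1 hhz
  have h4 : s⁻¹ * h * s ∈ P.B := by
    have := P.conj_mem s⁻¹ (inv_mem hsN) h hhT
    rwa [inv_inv] at this
  have h5 : s⁻¹ * (h * u⁻¹ * h⁻¹ * u⁻¹⁻¹) * s ∈ P.B := by
    have e1 : s⁻¹ * (h * u⁻¹ * h⁻¹ * u⁻¹⁻¹) * s = (s⁻¹ * h * s) * ((u * s)⁻¹ * h * (u * s))⁻¹ := by group
    rw [e1]
    exact mul_mem h4 (inv_mem h3)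
  have h6 := hfp _ (inv_mem hu') h5
  apply hz2
  rw [← huz', OfBN.mk_eq]
  have e1 : (u * s)⁻¹ * s = s⁻¹ * u⁻¹ * s := by group
  rwa [e1]

end fpf

include h2 hT

/-- **Characteristic two: all nodes are in types, or 2 is the only prime of `π` dividing the order.** -/
theorem all_types_two [IsSimpleGroup K] (hna : ¬ IsMulCommutative K)
    (hc : ∀ x ∈ P.B, ∀ y ∈ P.B, x * y * x⁻¹ * y⁻¹ ∈ U)
    {A : Subgroup (MulAut K)} (h : Cls π A)
    (hcase : (∀ s ∈ P.S, TriB P s) ∨ P.S.Subsingleton ∨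
      (∃ s t : K, P.S = {s, t} ∧ Cfsg.Agent.ParSys.FpfR P U s t ∧ Cfsg.Agent.ParSys.FpfR P U t s)) :
    (∀ i, ∃ J ∈ TySet (OfBN.sys e cs hcs hs) π, i ∈ J) ∨
      ∀ r : ℕ, r.Prime → r ∈ π → r ∣ Nat.card K → r = 2 := by
  set S := OfBN.sys e cs hcs hs with hS
  have hth := thick P e cs hcs
  by_cases h0 : ∃ i0, ∃ J ∈ TySet S π, i0 ∈ J
  · left
    intro i
    obtain ⟨i0, h0⟩ := h0
    rcases hcase with htri | hsub | ⟨s, t, hst, hf1, hf2⟩
    · exact all_of_tri e cs hcs hs h2 h.dom htri h0 i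
    · have h3 : i = i0 := e.injective (Subtype.ext (hsub (e i).2 (e i0).2))
      rw [h3]
      exact h0
    · have hi : (e i : K) = s ∨ (e i : K) = t := hst.subset (e i).2
      have hi0 : (e i0 : K) = s ∨ (e i0 : K) = t := hst.subset (e i0).2
      by_cases heq : i = i0
      · rw [heq]
        exact h0
      have hne : (e i : K) ≠ (e i0 : K) := fun h' => heq (e.injective (Subtype.ext h'))
      refine type_of_fpf e cs hcs hs hT h2 h.dom ?_ h0
      rcases hi with hi | hi <;> rcases hi0 with hi0 | hi0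
      · exact absurd (hi.trans hi0.symm) hne
      · rw [hi, hi0]; exact hf1
      · rw [hi, hi0]; exact hf2
      · exact absurd (hi.trans hi0.symm) hne
  · right
    push Not at h0
    -- the `π`-part of the torus is centralised by `N`
    have hcomm : ∀ n ∈ P.N, ∀ a ∈ Tpi P π hT, n * a = a * n := by
      intro n hn
      rw [← P.closure_sup] at hn
      have hle : closure P.S ⊔ (P.B ⊓ P.N) ≤ Subgroup.centralizer (Tpi P π hT : Set K) := by
        refine sup_le ?_ ?_
        · rw [closure_le]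
          intro s hsS
          show s ∈ Subgroup.centralizer (Tpi P π hT : Set K)
          rw [Subgroup.mem_centralizer_iff]
          intro a ha
          have h3 := comm_of_not_type e cs hcs hs (hT := hT) h2 h.dom (i := e.symm ⟨s, hsS⟩)
            (fun J hJ => h0 _ J hJ) ha
          rw [Equiv.apply_symm_apply] at h3
          exact h3.symm
        · intro b hb
          rw [Subgroup.mem_centralizer_iff]
          intro a ha
          exact hT a ha.1 b hb
      intro a ha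
      exact ((Subgroup.mem_centralizer_iff.1 (hle hn)) a ha).symm
    -- a Hall subgroup fixing a chamber
    obtain ⟨J, ⟨H, hH, z, hz, hJ⟩⟩ := cls_nonempty S h2 h
    have hTy : Ty (bldg P e cs hcs) H z = ∅ := by
      rw [hJ, Set.eq_empty_iff_forall_notMem]
      intro i hi
      exact h0 i J ⟨H, hH, z, hz, hJ⟩ hi
    have hHle : H ≤ MulAction.stabilizer K z := fun g hg => fix_of_Ty_empty S hth hz hTy hg
    have hidx : (MulAction.stabilizer K z).index = P.B.index := by
      rw [MulAction.index_stabilizer_of_transitive, Subgroup.index_eq_card]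
    intro t ht htπ htd
    by_contra ht2
    refine hna (Cfsg.Agent.H842.PC.abelian_of_torus hs hc ht ht2 htd ?_ ?_)
    · intro hd
      rw [← hidx] at hd
      exact hH.2 t ht htπ (hd.trans (Subgroup.index_dvd_of_le hHle))
    · rintro n hn a ha ⟨k, hk⟩
      refine hcomm n hn a ⟨ha, fun r hr hrd => ?_⟩
      have h3 : r ∣ t ^ k := hrd.trans (orderOf_dvd_of_pow_eq_one hk)
      rwa [(Nat.prime_dvd_prime_iff_eq hr ht).1 (hr.dvd_of_dvd_pow h3)]

end Cfsg.Agent.H443.PC
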