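import Cfsg.Agent.H443.PC.Defs
import Cfsg.Agent.H454.PiBS.Panel

/-!
# S3876, row_char, characteristic two: the panels

* `exists_type_of_tri` : `3 ∈ π` and `TriAt`: the node lies in a type;
* `three_dvd_of_tri` : the node lies in the type of `H` and `TriAt`: `3 ∣ |H|`;
* `fix_of_Ty_empty` : a subgroup `H ≥ U x` of type `∅` fixes `x`.
-/

set_option autoImplicit false
set_option linter.unusedSectionVars false

open scoped Pointwise

namespace Cfsg.Agent.H443.PC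

open Cfsg Subgroup Cfsg.Agent.Tits.Core Cfsg.Agent.Tits.Core.Bldg Cfsg.Agent.Tits
open Cfsg.Agent.FixBN (Sys)
open Cfsg.Agent.H469.PiBS Cfsg.Agent.H454.PiBS

variable {I : Type*} {M : CoxeterMatrix I} {W : Type*} [Group W] {cs : CoxeterSystem M W} {C : Type*}
  {Δ : Bldg cs C} {G : Type*} [Group G] [MulAction G C] {p : ℕ} (S : Sys Δ G p)

theorem pan_eq (i : I) (x : C) : Δ.Pan i x = Δ.Res {i} x := Δ.Pan_eq_Res i x

theorem smul_Res_of_sq {a : G} (ha : a * a = 1) {i : I} {x : C} (h : ∀ y ∈ Δ.Pan i x, a • y ∈ Δ.Pan i x) :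
    a • Δ.Res {i} x = Δ.Res {i} x := by
  rw [← pan_eq]
  refine Set.Subset.antisymm ?_ ?_
  · rintro _ ⟨y, hy, rfl⟩
    exact h y hy
  · intro y hy
    refine ⟨a • y, h y hy, ?_⟩
    show a • a • y = y
    rw [← mul_smul, ha, one_smul]

section tri

variable [Finite G] {π : Set ℕ}

/-- the symmetric group of degree three -/
theorem pi_tri (h2 : 2 ∈ π) (h3 : 3 ∈ π) {a b : G} (ha : a * a = 1) (hb : b * b = 1)
    (hab : a * b * a * b * a * b = 1) : IsPiSubgroup π (zpowers a ⊔ zpowers (a * b)) := by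
  have hf2 : Fact (Nat.Prime 2) := ⟨Nat.prime_two⟩
  have hf3 : Fact (Nat.Prime 3) := ⟨Nat.prime_three⟩
  have h1 : IsPGroup 2 (zpowers a) := by
    rintro ⟨c, k, rfl⟩
    refine ⟨1, Subtype.ext ?_⟩
    show (a ^ k) ^ (2 ^ 1) = 1
    rw [← zpow_natCast, ← zpow_mul, mul_comm, zpow_mul]
    have h3 : a ^ ((2 ^ 1 : ℕ) : ℤ) = 1 := by
      rw [zpow_natCast, pow_one, pow_two, ha]
    rw [h3, one_zpow]
  have h2' : IsPGroup 3 (zpowers (a * b)) := by
    rintro ⟨c, k, rfl⟩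
    refine ⟨1, Subtype.ext ?_⟩
    show ((a * b) ^ k) ^ (3 ^ 1) = 1
    rw [← zpow_natCast, ← zpow_mul, mul_comm, zpow_mul]
    have h3 : (a * b) ^ ((3 ^ 1 : ℕ) : ℤ) = 1 := by
      rw [zpow_natCast, pow_one, pow_succ, pow_two, ← hab]
      simp only [mul_assoc]
    rw [h3, one_zpow]
  refine pi_sup ?_ (pi_of_pGroup h2 h1) (pi_of_pGroup h3 h2')
  rw [zpowers_le, mem_normalizer_iff]
  have hinv : a * (a * b) * a⁻¹ = (a * b)⁻¹ := by
    have e1 : a⁻¹ = a := inv_eq_of_mul_eq_one_left ha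
    have e2 : b⁻¹ = b := inv_eq_of_mul_eq_one_left hb
    rw [mul_inv_rev, e1, e2, ← mul_assoc a a b, ha, one_mul]
  have key : ∀ g ∈ zpowers (a * b), a * g * a⁻¹ ∈ zpowers (a * b) := by
    rintro _ ⟨k, rfl⟩
    show a * (a * b) ^ k * a⁻¹ ∈ _
    rw [← conj_zpow, hinv]
    exact zpow_mem (inv_mem (mem_zpowers _)) k
  intro g
  refine ⟨key g, fun hg => ?_⟩
  have h4 := key _ hg
  have e1 : a⁻¹ = a := inv_eq_of_mul_eq_one_left ha
  have h5 : a * (a * g * a⁻¹) * a⁻¹ = g := by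
    rw [e1]
    calc a * (a * g * a) * a = (a * a) * g * (a * a) := by group
      _ = g := by rw [ha, one_mul, mul_one]
  rwa [h5] at h4

end tri

variable [F : OppRes.Cox cs]

section dom

variable [Finite G] {π : Set ℕ}

/-- **`3 ∈ π`: a symmetric group of degree three puts the node into a type** -/
theorem exists_type_of_tri [hp : Fact p.Prime] (hth : Δ.Thick)
    (hdom : ∀ K : Subgroup G, IsPiSubgroup π K → ∃ H : Subgroup G, IsPiHall π H ∧ K ≤ H) (hpi : p ∈ π)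
    (h2 : 2 ∈ π) (h3 : 3 ∈ π) {i : I} {x : C} (ht : TriAt Δ G i x) : ∃ J ∈ TySet S π, i ∈ J := by
  obtain ⟨a, b, ha, hb, hab, haD, hbD, hnf⟩ := ht
  have h1 : zpowers a ⊔ zpowers (a * b) ≤ MulAction.stabilizer G (Δ.Res {i} x) := by
    have hA : a ∈ MulAction.stabilizer G (Δ.Res {i} x) := smul_Res_of_sq ha haD
    have hB : b ∈ MulAction.stabilizer G (Δ.Res {i} x) := smul_Res_of_sq hb hbD
    exact sup_le ((zpowers_le).2 hA) ((zpowers_le).2 (mul_mem hA hB))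
  by_contra hcon
  push Not at hcon
  obtain ⟨z, hz, hfix⟩ := exists_fix_of_not_type S hth hdom hpi (i := i) hcon (pi_tri h2 h3 ha hb hab)
    (x := x) (fun g hg => MulAction.mem_stabilizer_iff.1 (h1 hg))
  have hA : a • z = z := hfix a (mem_sup_left (mem_zpowers a))
  have hAB : (a * b) • z = z := hfix (a * b) (mem_sup_right (mem_zpowers _))
  rw [← pan_eq] at hz
  refine hnf z hz ⟨hA, ?_⟩
  have h4 : a⁻¹ • (a * b) • z = a⁻¹ • z := by rw [hAB]
  rw [← mul_smul, inv_mul_cancel_left] at h4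
  rw [h4]
  exact inv_smul_eq_iff.2 hA.symm

end dom

/-- `H` contains the groups `U z` of the panels of its type -/
theorem U_le_of_mem_Res {H : Subgroup G} {x : C} (hx : S.U x ≤ H) {y : C} (hy : y ∈ Δ.Res (Ty Δ H x) x) :
    S.U y ≤ H := by
  obtain ⟨h, hh, rfl⟩ := exists_smul_of_mem_Res S hx hy
  intro u hu
  have h1 := S.conj_mem_U hu h⁻¹
  rw [inv_smul_smul] at h1
  have h2 := mul_mem (mul_mem hh (hx h1)) (inv_mem hh)
  have h3 : h * (h⁻¹ * u * h⁻¹⁻¹) * h⁻¹ = u := by group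
  rwa [h3] at h2

theorem U_le_of_mem_Pan {H : Subgroup G} {x : C} (hx : S.U x ≤ H) {i : I} (hi : i ∈ Ty Δ H x) {y : C}
    (hy : y ∈ Δ.Pan i x) : S.U y ≤ H :=
  U_le_of_mem_Res S hx (Δ.Pan_subset_Res hi x hy)

include S in
/-- a `p`-group stabilising a panel fixes a chamber of it -/
theorem exists_fix_Pan [Fact p.Prime] [Finite G] (hth : Δ.Thick) {i : I} {x : C} {V : Subgroup G}
    (hV : IsPGroup p V) (hst : ∀ g ∈ V, g • Δ.Res {i} x = Δ.Res {i} x) : ∃ z ∈ Δ.Res {i} x, ∀ g ∈ V, g • z = z := by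
  have hVp : IsPGroup p (S.UR (Δ.Res {i} x)) := S.UR_isP ⟨x, Δ.self_mem_Res {i} x⟩
  have hnor : V ≤ normalizer (S.UR (Δ.Res {i} x) : Set G) := by
    intro g hg
    rw [mem_normalizer_iff]
    intro u
    have h1 := S.conj_mem_UR_iff (Q := Δ.Res {i} x) (u := u) (g := g)
    rw [hst g hg] at h1
    exact h1.symm
  obtain ⟨z, hz⟩ := S.exists_fix (V ⊔ S.UR (Δ.Res {i} x)) (hV.to_sup_of_normal_right' hVp hnor)
  exact ⟨z, mem_Res_of_fix S hth fun u hu => hz u (mem_sup_right hu), fun g hg => hz g (mem_sup_left hg)⟩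

/-- **a node of the type of `H` with a symmetric group of degree three: `3 ∣ |H|`** -/
theorem three_dvd_of_tri (S : Sys Δ G 2) [Finite G] (hth : Δ.Thick) {H : Subgroup G} {x : C} (hx : S.U x ≤ H) {i : I}
    (hi : i ∈ Ty Δ H x) (ht : TriAt Δ G i x) : 3 ∣ Nat.card H := by
  have hf2 : Fact (Nat.Prime 2) := ⟨Nat.prime_two⟩
  obtain ⟨a, b, ha, hb, hab, haD, hbD, hnf⟩ := ht
  have key : ∀ a : G, a * a = 1 → (∀ y ∈ Δ.Pan i x, a • y ∈ Δ.Pan i x) → ∃ z ∈ Δ.Pan i x, a • z = z ∧ a ∈ H := by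
    intro a ha haD
    have h1 : IsPGroup 2 (zpowers a) := by
      rintro ⟨c, k, rfl⟩
      refine ⟨1, Subtype.ext ?_⟩
      show (a ^ k) ^ (2 ^ 1) = 1
      rw [← zpow_natCast, ← zpow_mul, mul_comm, zpow_mul]
      have h3 : a ^ ((2 ^ 1 : ℕ) : ℤ) = 1 := by
        rw [zpow_natCast, pow_one, pow_two, ha]
      rw [h3, one_zpow]
    have h2 : zpowers a ≤ MulAction.stabilizer G (Δ.Res {i} x) := (zpowers_le).2 (smul_Res_of_sq ha haD)
    obtain ⟨z, hz, hfix⟩ := exists_fix_Pan S hth h1 (i := i) (x := x)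
      (fun g hg => MulAction.mem_stabilizer_iff.1 (h2 hg))
    rw [← pan_eq] at hz
    refine ⟨z, hz, hfix a (mem_zpowers a), ?_⟩
    exact U_le_of_mem_Pan S hx hi hz (S.max z _ h1 hfix (mem_zpowers a))
  obtain ⟨z, hz, hza, haH⟩ := key a ha haD
  obtain ⟨z', hz', hzb, hbH⟩ := key b hb hbD
  have h3 : orderOf (a * b) = 3 := by
    refine orderOf_eq_prime ?_ ?_
    · rw [pow_succ, pow_two, ← hab]
      simp only [mul_assoc]
    · intro h
      have h4 : b = a := by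
        have e1 : a⁻¹ = a := inv_eq_of_mul_eq_one_left ha
        rw [← e1]
        exact (inv_eq_of_mul_eq_one_right h).symm
      exact hnf z hz ⟨hza, by rw [h4]; exact hza⟩
  rw [← h3]
  exact Subgroup.orderOf_dvd_natCard H (mul_mem haH hbH)

/-- **a subgroup `H ≥ U x` of type `∅` fixes `x`** -/
theorem fix_of_Ty_empty (hth : Δ.Thick) {H : Subgroup G} {x : C} (hx : S.U x ≤ H) (hT : Ty Δ H x = ∅)
    {h : G} (hh : h ∈ H) : h • x = x := by
  by_contra hne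
  have h1 : Δ.δ x (h • x) ≠ 1 := fun h2 => hne ((Δ.eq_one x (h • x)).1 h2).symm
  obtain ⟨i, hi⟩ := cs.exists_leftDescent_of_ne_one h1
  have hi' : cs.length (cs.simple i * Δ.δ x (h • x)) < cs.length (Δ.δ x (h • x)) := hi
  obtain ⟨z1, hz1, hz1'⟩ := Cfsg.Agent.FixBN.exists_first Δ hi'
  obtain ⟨z2, hz2, hz2x⟩ : ∃ z2, Δ.δ z1 z2 = cs.simple i ∧ z2 ≠ x := by
    obtain ⟨a, b, hab, ha, hb⟩ := hth z1 i
    by_cases hax : a = x
    · exact ⟨b, hb, fun h' => hab (hax.trans h'.symm)⟩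
    · exact ⟨a, ha, hax⟩
  have h21 : Δ.δ z2 z1 = cs.simple i := by rw [Δ.symm, hz2, cs.inv_simple]
  have hl : cs.length (cs.simple i * (cs.simple i * Δ.δ x (h • x))) =
      cs.length (cs.simple i) + cs.length (cs.simple i * Δ.δ x (h • x)) := by
    have h4 := cs.length_simple_mul (Δ.δ x (h • x)) i
    rw [← mul_assoc, cs.simple_mul_simple_self, one_mul, cs.length_simple]
    omega
  have h2 : Δ.δ z2 (h • x) = Δ.δ x (h • x) := by
    rw [Δ.δ_mul_of h21 hz1' hl, ← mul_assoc, cs.simple_mul_simple_self, one_mul]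
  have h3 : Δ.δ (h • x) x = Δ.δ (h • x) z2 := by
    rw [Δ.symm x (h • x), Δ.symm z2 (h • x), h2]
  obtain ⟨u, hu, hux⟩ := S.exists_move h3
  have huH : u ∈ H := by
    have h5 := S.conj_mem_U hu h⁻¹
    rw [inv_smul_smul] at h5
    have h6 := mul_mem (mul_mem hh (hx h5)) (inv_mem hh)
    have h7 : h * (h⁻¹ * u * h⁻¹⁻¹) * h⁻¹ = u := by group
    rwa [h7] at h6
  have hxz1 : x ∈ Δ.Res {i} z1 := mem_Res_single.2 (Or.inr (by rw [Δ.symm, hz1, cs.inv_simple]))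
  have hz2' : z2 ∈ Δ.Res {i} x := by
    rw [Δ.Res_eq_of_mem hxz1]
    exact mem_Res_single.2 (Or.inr hz2)
  have h8 : i ∈ Ty Δ H x :=
    mem_Ty_of_not_fix (Δ.self_mem_Res {i} x) huH (by rw [hux]; exact hz2') (by rw [hux]; exact hz2x)
  rw [hT] at h8
  exact h8

end Cfsg.Agent.H443.PC
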